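import Groth.Agent.Lib.AffDom.LocalDim
import Groth.Agent.Lib.QFPoly.Basic
import Groth.Agent.Lib.CatCM.Basic
import Groth.Agent.Lib.Chev28.MiracleFinite
import Mathlib.AlgebraicGeometry.Morphisms.QuasiFinite
import Mathlib.AlgebraicGeometry.Artinian

/-!
# Miracle flatness for quasi-finite morphisms of regular varieties
-/

set_option linter.all false
set_option backward.isDefEq.respectTransparency false

universe u

open CategoryTheory CategoryTheory.Limits AlgebraicGeometry TopologicalSpace

namespace GrothLib.FibRank10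

variable {K : Type u} [Field K]

theorem ptDim_genericPoint {X : Scheme.{u}} [IsIntegral X] :
    AffDom.ptDim (genericPoint X) = topologicalKrullDim X := by
  rw [AffDom.ptDim, genericPoint_closure, (Homeomorph.Set.univ X).isHomeomorph.topologicalKrullDim_eq]

/-- The dimension formula at a point of an integral scheme of finite type over a field. -/
theorem ptDim_add_dim_stalk {X : Scheme.{u}} [IsIntegral X] (p : X ⟶ Spec (CommRingCat.of K))
    [LocallyOfFiniteType p] {U : X.Opens} (hU : IsAffineOpen U) (P : PrimeSpectrum Γ(X, U)) :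
    (P.asIdeal.height : WithBot ℕ∞) + AffDom.ptDim (hU.fromSpec P) = topologicalKrullDim X := by
  obtain ⟨ψ, hψ, hψ'⟩ := GrothLib.Dim.exists_finiteType_specMap p hU
  algebraize [ψ.hom]
  haveI : Algebra.FiniteType K Γ(X, U) := hψ
  haveI : Nonempty U := ⟨⟨hU.fromSpec P, hU.range_fromSpec.le ⟨P, rfl⟩⟩⟩
  let o : PrimeSpectrum Γ(X, U) := ⟨⊥, Ideal.isPrime_bot⟩
  have ho : hU.fromSpec o = genericPoint X := by
    refine IsGenericPoint.eq (?_ : IsGenericPoint _ (⊤ : Set X)) (genericPoint_spec X)
    refine (isGenericPoint_iff_specializes).2 fun y => ⟨fun _ => trivial, fun _ => ?_⟩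
    obtain ⟨q, hq⟩ := hU.range_fromSpec.ge
      (((genericPoint_spec X).mem_open_set_iff U.2).2 ⟨hU.fromSpec P, trivial, hU.range_fromSpec.le ⟨P, rfl⟩⟩)
    have h1 : hU.fromSpec o ⤳ genericPoint X := by
      rw [← hq]
      exact ((PrimeSpectrum.le_iff_specializes o q).1 bot_le).map hU.fromSpec.continuous
    exact h1.trans (genericPoint_specializes y)
  rw [← ptDim_genericPoint, ← ho, AffDom.ptDim_fromSpec p hU, AffDom.ptDim_fromSpec p hU,
    AffDom.height_add_ringKrullDim_quotient K]
  exact (ringKrullDim_eq_of_ringEquiv (RingEquiv.quotientBot Γ(X, U))).symm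

/-- A quasi-finite morphism of regular varieties of the same dimension is flat. -/
theorem flat_of_regular {X Y : Scheme.{u}} [IsIntegral X] [IsIntegral Y] (f : X ⟶ Y)
    [LocallyOfFiniteType f] [LocallyQuasiFinite f] (q : Y ⟶ Spec (CommRingCat.of K)) [LocallyOfFiniteType q]
    (hdim : topologicalKrullDim X = topologicalKrullDim Y)
    (hX : ∀ x : X, IsRegularLocalRing (X.presheaf.stalk x))
    (hY : ∀ y : Y, IsRegularLocalRing (Y.presheaf.stalk y)) : Flat f := by
  haveI : IsLocallyNoetherian Y := LocallyOfFiniteType.isLocallyNoetherian q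
  haveI : IsLocallyNoetherian X := LocallyOfFiniteType.isLocallyNoetherian f
  refine (HasRingHomProperty.iff_appLE (P := @Flat)).mpr fun V U e => ?_
  have hqf := HasRingHomProperty.appLE @LocallyQuasiFinite f inferInstance V U e
  have hpt : ∀ (P : PrimeSpectrum Γ(X, U.1)),
      f (U.2.fromSpec P) = V.2.fromSpec (P.comap (f.appLE V.1 U.1 e).hom) := fun P => by
    rw [← Scheme.Hom.comp_apply, ← IsAffineOpen.SpecMap_appLE_fromSpec f V.2 U.2 e]
    rfl
  algebraize [(f.appLE V.1 U.1 e).hom]
  haveI : Algebra.QuasiFinite Γ(Y, V.1) Γ(X, U.1) := RingHom.quasiFinite_algebraMap.1 hqf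
  haveI : IsNoetherianRing Γ(Y, V.1) := IsLocallyNoetherian.component_noetherian V
  haveI : IsNoetherianRing Γ(X, U.1) := IsLocallyNoetherian.component_noetherian U
  haveI : IsRegularRing Γ(Y, V.1) := Chev28.isRegularRing_section hY V.2
  haveI : IsRegularRing Γ(X, U.1) := Chev28.isRegularRing_section hX U.2
  refine RingHom.flat_algebraMap_iff.2 (Module.flat_of_isLocalized_maximal (R := Γ(Y, V.1)) (S := Γ(X, U.1))
    Γ(X, U.1) (fun m _ => Localization.AtPrime m) (fun m _ => Algebra.linearMap Γ(X, U.1) _) fun m hm => ?_)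
  haveI := CatCM.isCohenMacaulayRing_of_isRegularRing Γ(X, U.1)
  let P : PrimeSpectrum Γ(X, U.1) := ⟨m, hm.isPrime⟩
  refine (QFPoly.flat_iff (m.under Γ(Y, V.1)) m).2
    ⟨LocCoh.IsCohenMacaulayRing.isCohenMacaulayLocalRing_localization m, ?_⟩
  rw [IsLocalization.AtPrime.ringKrullDim_eq_height m, IsLocalization.AtPrime.ringKrullDim_eq_height (m.under Γ(Y, V.1))]
  have h1 := ptDim_add_dim_stalk (f ≫ q) U.2 P
  have h2 := ptDim_add_dim_stalk q V.2 (P.comap (f.appLE V.1 U.1 e).hom)
  have h3 := AffDom.ptDim_eq_add f q (U.2.fromSpec P)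
  have h4 : AffDom.ptDim (f.asFiber (U.2.fromSpec P)) = 0 := by
    haveI : LocallyQuasiFinite (f.fiberToSpecResidueField (f (U.2.fromSpec P))) :=
      MorphismProperty.pullback_snd _ _ ‹LocallyQuasiFinite f›
    haveI : LocallyOfFiniteType (f.fiberToSpecResidueField (f (U.2.fromSpec P))) :=
      MorphismProperty.pullback_snd _ _ ‹LocallyOfFiniteType f›
    haveI : IsLocallyArtinian (f.fiber (f (U.2.fromSpec P))) :=
      IsLocallyArtinian.of_locallyQuasiFinite (f.fiberToSpecResidueField _)
    haveI : DiscreteTopology (f.fiber (f (U.2.fromSpec P))) :=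
      (IsLocallyArtinian.iff_isLocallyNoetherian_and_discreteTopology.mp ‹_›).2
    exact le_antisymm (topologicalKrullDim_zero_of_discreteTopology _) (AffDom.ptDim_nonneg _)
  rw [h4, add_zero, hpt] at h3
  rw [h3, hdim, ← h2] at h1
  obtain ⟨n, hn⟩ := AffDom.exists_nat_ptDim q (V.2.fromSpec (P.comap (f.appLE V.1 U.1 e).hom))
  rw [hn] at h1
  exact QFPoly.add_natCast_cancel n h1

end GrothLib.FibRank10
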