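import Groth.Agent.Lib.GenFinite9.Basic
import Groth.Agent.Lib.FlatStab13.Locus
import Groth.Agent.Lib.CurveMult.GenEtale
import Groth.Agent.Lib.C1.BasePush
import Groth.Agent.S17411

/-!
# Fibre rank of a generically finite morphism on an open
-/

set_option linter.all false
set_option backward.isDefEq.respectTransparency false

universe u

open CategoryTheory CategoryTheory.Limits AlgebraicGeometry TopologicalSpace

namespace GrothLib.FibRank10

/-- The rank of a finite scheme over a field is the dimension of its ring of functions. -/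
theorem finrank_eq (K : CommRingCat.{u}) (hK : IsField K) {P : Scheme.{u}} (g : P ⟶ Spec K) [IsFinite g] [Flat g]
    (pt : (Spec K : Scheme.{u})) :
    g.finrank pt = (letI := ((Scheme.ΓSpecIso K).inv ≫ g.appTop).hom.toAlgebra; Module.finrank K Γ(P, ⊤)) := by
  haveI : IsAffine P := isAffine_of_isAffineHom g
  letI := hK.toField
  let φ : K ⟶ Γ(P, ⊤) := (Scheme.ΓSpecIso K).inv ≫ g.appTop
  letI := φ.hom.toAlgebra
  have hg : g = P.isoSpec.hom ≫ Spec.map φ := by
    rw [Spec.map_comp, Scheme.isoSpec_hom_naturality_assoc, Scheme.isoSpec_Spec_hom, ← Spec.map_comp,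
      Iso.inv_hom_id, Spec.map_id, Category.comp_id]
  have hfin : φ.hom.Finite := (IsFinite.SpecMap_iff _).1
    ((MorphismProperty.cancel_left_of_respectsIso @IsFinite P.isoSpec.hom _).1 (hg ▸ inferInstance))
  haveI : Module.Finite K Γ(P, ⊤) := hfin
  haveI : Flat (Spec.map φ) :=
    (MorphismProperty.cancel_left_of_respectsIso @Flat P.isoSpec.hom _).1 (hg ▸ inferInstance)
  haveI : IsFinite (Spec.map φ) := (IsFinite.SpecMap_iff _).2 hfin
  conv_lhs => rw [hg]
  rw [Scheme.Hom.finrank_comp_left_of_isIso]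
  rw [show φ = CommRingCat.ofHom (algebraMap K Γ(P, ⊤)) from rfl,
    Scheme.Hom.finrank_SpecMap_algebraMap, Module.rankAtStalk_eq_finrank_of_free]
  rfl

theorem residueDegree_ι {X : Scheme.{u}} (U : X.Opens) (x : (U : Scheme.{u})) : U.ι.residueDegree x = 1 :=
  C1.BasePush.residueDegree_eq_one _ x (GrothLib.BrnchNhd.residueFieldMap_bijective_of_preimmersion U.ι x)

/-- A generically finite dominant morphism of integral schemes of finite type over a field has constant
fibre rank, equal to its degree, over a nonempty open. -/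
theorem exists_open_fibre_rank (k : Type u) [Field k] {X Y : Scheme.{u}}
    [X.Over (Spec (CommRingCat.of k))] [Y.Over (Spec (CommRingCat.of k))]
    [LocallyOfFiniteType (X ↘ Spec (CommRingCat.of k))] [QuasiCompact (X ↘ Spec (CommRingCat.of k))]
    [LocallyOfFiniteType (Y ↘ Spec (CommRingCat.of k))] [QuasiCompact (Y ↘ Spec (CommRingCat.of k))]
    [IsIntegral X] [IsIntegral Y] (f : X ⟶ Y) [IsDominant f]
    (hf : f ≫ (Y ↘ Spec (CommRingCat.of k)) = X ↘ Spec (CommRingCat.of k))
    (hdim : topologicalKrullDim ↥X = topologicalKrullDim ↥Y) :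
    0 < f.residueDegree (genericPoint X) ∧
      ∃ U : Y.Opens, Nonempty ↥U ∧ ∀ y : Y, y ∈ U →
        IsFinite (pullback.snd f (Y.fromSpecResidueField y)) ∧
          (letI := ((Scheme.ΓSpecIso (CommRingCat.of (Y.residueField y))).inv ≫
              (pullback.snd f (Y.fromSpecResidueField y)).appTop).hom.toAlgebra;
            Module.finrank (Y.residueField y) ↑(Γ(pullback f (Y.fromSpecResidueField y), ⊤))) =
          f.residueDegree (genericPoint X) := by
  haveI : IsLocallyNoetherian Y := LocallyOfFiniteType.isLocallyNoetherian (Y ↘ Spec (CommRingCat.of k))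
  haveI : IsLocallyNoetherian X := LocallyOfFiniteType.isLocallyNoetherian (X ↘ Spec (CommRingCat.of k))
  haveI : LocallyOfFiniteType (f ≫ Y ↘ Spec (CommRingCat.of k)) := by rw [hf]; infer_instance
  haveI : LocallyOfFiniteType f := locallyOfFiniteType_of_comp f (Y ↘ Spec (CommRingCat.of k))
  haveI : CompactSpace X := QuasiCompact.compactSpace_of_compactSpace (X ↘ Spec (CommRingCat.of k))
  haveI : CompactSpace Y := QuasiCompact.compactSpace_of_compactSpace (Y ↘ Spec (CommRingCat.of k))
  haveI : QuasiCompact f := by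
    haveI : QuasiCompact (f ≫ Y ↘ Spec (CommRingCat.of k)) := by rw [hf]; infer_instance
    exact QuasiCompact.of_comp f (Y ↘ Spec (CommRingCat.of k))
  have hgen : closure {genericPoint Y} ∈ irreducibleComponents (Y : Type u) := by
    rw [genericPoint_closure, irreducibleComponents_eq_singleton]
    exact Set.mem_singleton _
  have hξ : f (genericPoint X) = genericPoint Y :=
    (((genericPoint_spec X).image f.continuous).eq
      (by rw [Set.image_univ, f.denseRange.closure_range]; exact genericPoint_spec Y))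
  obtain ⟨V, hV, hηV, hVfin⟩ := GenFinite9.exists_affine_finite f (genericPoint Y) hgen
    ((Set.finite_singleton (genericPoint X)).subset fun x hx => Groth.Agent.S17411.eq_genericPoint_of_map
      (X ↘ Spec (CommRingCat.of k)) (Y ↘ Spec (CommRingCat.of k)) f hf hdim x hx)
  haveI := hVfin
  haveI : Nonempty V := ⟨⟨_, hηV⟩⟩
  haveI : IsIntegral (V : Scheme.{u}) := isIntegral_of_isOpenImmersion V.ι
  haveI : CompactSpace (f ⁻¹ᵁ V : Scheme.{u}) := by
    haveI : IsAffine (V : Scheme.{u}) := hV
    haveI := isAffine_of_isAffineHom (f ∣_ V)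
    infer_instance
  haveI : LocallyOfFinitePresentation (f ∣_ V) := inferInstance
  obtain ⟨O, hO, hOflat⟩ := FlatStab13.exists_dense_open_flat (f ∣_ V)
  let U := V.ι ''ᵁ O
  haveI : Flat (f ∣_ U) :=
    (MorphismProperty.arrow_mk_iso_iff @Flat (morphismRestrictRestrict f V O)).mp hOflat
  haveI : IsFinite (f ∣_ U) :=
    (MorphismProperty.arrow_mk_iso_iff @IsFinite (morphismRestrictRestrict f V O)).mp
      (IsZariskiLocalAtTarget.restrict hVfin O)
  have hUne : Nonempty U := by
    obtain ⟨z, hz⟩ := hO.nonempty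
    exact ⟨⟨V.ι z, ⟨z, hz, rfl⟩⟩⟩
  have hξU : genericPoint X ∈ f ⁻¹ᵁ U := by
    show f (genericPoint X) ∈ U
    rw [hξ]
    obtain ⟨⟨y, hy⟩⟩ := hUne
    exact ((genericPoint_spec Y).mem_open_set_iff U.2).2 ⟨y, trivial, hy⟩
  haveI : Nonempty (f ⁻¹ᵁ U) := ⟨⟨_, hξU⟩⟩
  haveI : IsIntegral (f ⁻¹ᵁ U : Scheme.{u}) := isIntegral_of_isOpenImmersion (f ⁻¹ᵁ U).ι
  haveI : IsIntegral (U : Scheme.{u}) := isIntegral_of_isOpenImmersion U.ι
  have eξ : (f ⁻¹ᵁ U).ι (genericPoint (f ⁻¹ᵁ U : Scheme.{u})) = genericPoint X :=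
    genericPoint_eq_of_isOpenImmersion _
  have hξ' : (f ∣_ U) (genericPoint (f ⁻¹ᵁ U : Scheme.{u})) = genericPoint (U : Scheme.{u}) := by
    apply U.ι.isOpenEmbedding.injective
    rw [genericPoint_eq_of_isOpenImmersion U.ι, ← Scheme.Hom.comp_apply, morphismRestrict_ι,
      Scheme.Hom.comp_apply, eξ, hξ]
  have hdeg := (CurveMult.generic_finite_flat (f ∣_ U) hξ').1
  have hres : (f ∣_ U).residueDegree (genericPoint (f ⁻¹ᵁ U : Scheme.{u})) = f.residueDegree (genericPoint X) := by
    have h := C1.BasePush.residueDegree_congr (morphismRestrict_ι f U) (genericPoint (f ⁻¹ᵁ U : Scheme.{u}))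
    rw [CycBasic.residueDegree_comp, CycBasic.residueDegree_comp, residueDegree_ι, residueDegree_ι,
      one_mul, mul_one, eξ] at h
    exact h
  refine ⟨?_, U, hUne, fun y hy => ?_⟩
  · have := (f ∣_ U).one_le_finrank_map (genericPoint (f ⁻¹ᵁ U : Scheme.{u}))
    rw [hdeg, hres] at this
    exact this
  let g' : Spec (Y.residueField y) ⟶ (U : Scheme.{u}) := IsOpenImmersion.lift U.ι (Y.fromSpecResidueField y)
    (by rw [Scheme.Opens.range_ι, Scheme.range_fromSpecResidueField]; exact Set.singleton_subset_iff.2 hy)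
  have hg' : g' ≫ U.ι = Y.fromSpecResidueField y := IsOpenImmersion.lift_fac _ _ _
  have h := (IsPullback.of_hasPullback (f ∣_ U) g').paste_horiz (isPullback_morphismRestrict f U).flip
  rw [hg'] at h
  have e2 : h.isoPullback.inv ≫ pullback.snd (f ∣_ U) g' = pullback.snd f (Y.fromSpecResidueField y) :=
    h.isoPullback_inv_snd
  haveI hfib : IsFinite (pullback.snd f (Y.fromSpecResidueField y)) := by
    rw [← e2]; infer_instance
  haveI : Flat (pullback.snd f (Y.fromSpecResidueField y)) := by
    rw [← e2]; infer_instance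
  refine ⟨hfib, ?_⟩
  rw [← hres, ← hdeg (g' default)]
  refine (finrank_eq (CommRingCat.of (Y.residueField y)) (Field.toIsField (Y.residueField y))
    (pullback.snd f (Y.fromSpecResidueField y)) default).symm.trans ?_
  conv_lhs => rw [← e2, Scheme.Hom.finrank_comp_left_of_isIso]
  exact Scheme.Hom.finrank_pullback_snd _ _ _

end GrothLib.FibRank10
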