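import Groth.Agent.Lib.FibRank10.Main
import Groth.Agent.Lib.FibRank10.Flat
import Groth.Agent.Lib.Weight.FibreRank

/-!
# The fibre rank is at most the degree
-/

set_option linter.all false
set_option backward.isDefEq.respectTransparency false

universe u

open CategoryTheory CategoryTheory.Limits AlgebraicGeometry TopologicalSpace

namespace GrothLib.FibRank10

variable {X Y : Scheme.{u}}

theorem gRank_eq_finrank {P : Scheme.{u}} {K : Type u} [Field K] (π : P ⟶ Spec (CommRingCat.of K))
    (hπ : IsFinite π) :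
    Weight.gRank π =
      ((letI := ((Scheme.ΓSpecIso (CommRingCat.of K)).inv ≫ π.appTop).hom.toAlgebra;
        Module.finrank K Γ(P, ⊤) : ℕ) : Cardinal.{u}) := by
  obtain ⟨p⟩ : Nonempty ↥(Spec (CommRingCat.of K)) := inferInstance
  haveI : Subsingleton ↥(Spec (CommRingCat.of K)) := inferInstanceAs (Subsingleton (PrimeSpectrum K))
  haveI : Flat π := inferInstance
  rw [Weight.gRank_of_isFinite π p, finrank_eq (CommRingCat.of K) (Field.toIsField K) π p]

/-- Restricting to an open containing the fibre does not change the fibre rank. -/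
theorem gRank_restrict (f : X ⟶ Y) (W : X.Opens) (y : Y) (hW : f ⁻¹' {y} ⊆ W) :
    Weight.gRank (K := Y.residueField y) ((W.ι ≫ f).fiberToSpecResidueField y) =
      Weight.gRank (K := Y.residueField y) (f.fiberToSpecResidueField y) := by
  let τ : (W.ι ≫ f).fiber y ⟶ f.fiber y :=
    pullback.map _ _ _ _ W.ι (𝟙 _) (𝟙 _) (by simp) (by simp)
  haveI : IsOpenImmersion τ := by
    show IsOpenImmersion (pullback.map _ _ _ _ W.ι (𝟙 _) (𝟙 _) _ _)
    infer_instance
  have hr : Set.range τ = Set.univ := by
    refine Set.eq_univ_of_forall fun z => ?_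
    show z ∈ Set.range (pullback.map (W.ι ≫ f) (Y.fromSpecResidueField y) _ _ W.ι (𝟙 _) (𝟙 _) _ _)
    rw [Scheme.Pullback.range_map]
    refine ⟨⟨⟨f.fiberι y z, hW ?_⟩, rfl⟩, ⟨_, rfl⟩⟩
    exact (f.range_fiberι y).le ⟨z, rfl⟩
  haveI : IsIso τ := isIso_of_isOpenImmersion_of_opensRange_eq_top τ (TopologicalSpace.Opens.ext hr)
  have e : τ ≫ f.fiberToSpecResidueField y = (W.ι ≫ f).fiberToSpecResidueField y :=
    (pullback.lift_snd _ _ _).trans (Category.comp_id _)
  refine le_antisymm (e ▸ Weight.gRank_le_of_isClopen (K := Y.residueField y) _ τ (hr ▸ isClopen_univ)) ?_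
  have h2 := Weight.gRank_le_of_isClopen (K := Y.residueField y) ((W.ι ≫ f).fiberToSpecResidueField y) (inv τ)
    (by rw [(inv τ).surjective.range_eq]; exact isClopen_univ)
  rwa [← e, IsIso.inv_hom_id_assoc, e] at h2

/-- Over regular varieties, a finite fibre of a separated generically finite morphism has rank at most the degree. -/
theorem fibre_rank_le (k : Type u) [Field k]
    [X.Over (Spec (CommRingCat.of k))] [Y.Over (Spec (CommRingCat.of k))]
    [LocallyOfFiniteType (X ↘ Spec (CommRingCat.of k))] [QuasiCompact (X ↘ Spec (CommRingCat.of k))]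
    [LocallyOfFiniteType (Y ↘ Spec (CommRingCat.of k))] [QuasiCompact (Y ↘ Spec (CommRingCat.of k))]
    [IsIntegral X] [IsIntegral Y] (f : X ⟶ Y) [IsDominant f]
    (hf : f ≫ (Y ↘ Spec (CommRingCat.of k)) = X ↘ Spec (CommRingCat.of k))
    (hdim : topologicalKrullDim ↥X = topologicalKrullDim ↥Y)
    [IsSeparated f] (hX : ∀ x : X, IsRegularLocalRing (X.presheaf.stalk x))
    (hY : ∀ y : Y, IsRegularLocalRing (Y.presheaf.stalk y)) (y : Y)
    (hy : IsFinite (pullback.snd f (Y.fromSpecResidueField y))) :
    (letI := ((Scheme.ΓSpecIso (CommRingCat.of (Y.residueField y))).inv ≫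
            (pullback.snd f (Y.fromSpecResidueField y)).appTop).hom.toAlgebra;
          Module.finrank (Y.residueField y) ↑(Γ(pullback f (Y.fromSpecResidueField y), ⊤))) ≤
      f.residueDegree (genericPoint X) := by
  obtain ⟨-, U, ⟨⟨u, hu⟩⟩, hU⟩ := exists_open_fibre_rank k f hf hdim
  have hηU : genericPoint Y ∈ U := ((genericPoint_spec Y).mem_open_set_iff U.2).2 ⟨u, trivial, hu⟩
  obtain ⟨hηfin, hηd⟩ := hU _ hηU
  let p := X ↘ Spec (CommRingCat.of k)
  let q := Y ↘ Spec (CommRingCat.of k)
  haveI : IsLocallyNoetherian Y := LocallyOfFiniteType.isLocallyNoetherian q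
  haveI : IsLocallyNoetherian X := LocallyOfFiniteType.isLocallyNoetherian p
  haveI : LocallyOfFiniteType (f ≫ q) := by rw [hf]; infer_instance
  haveI : LocallyOfFiniteType f := locallyOfFiniteType_of_comp f q
  let W : X.Opens := ⟨f.quasiFiniteLocus, f.quasiFiniteLocus.isOpen⟩
  have hmem : ∀ z : Y, IsFinite (pullback.snd f (Y.fromSpecResidueField z)) → f ⁻¹' {z} ⊆ W := by
    intro z hz x hx
    have hfin : (f ⁻¹' {f x}).Finite := by
      rw [Set.mem_singleton_iff.1 hx]
      haveI : IsFinite (f.fiberToSpecResidueField z) := hz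
      haveI : Finite (f.fiber z) := Set.finite_univ_iff.1
        (((f.fiberToSpecResidueField z).finite_preimage_singleton (IsLocalRing.closedPoint _)).subset
          fun a _ => Subsingleton.elim _ _)
      rw [← f.range_fiberι]
      exact Set.finite_range _
    exact GenFinite9.quasiFiniteAt_of_finite_fibre f hfin
  let g := W.ι ≫ f
  have hξ : genericPoint X ∈ W := by
    refine hmem _ hηfin ?_
    exact (((genericPoint_spec X).image f.continuous).eq
      (by rw [Set.image_univ, f.denseRange.closure_range]; exact genericPoint_spec Y))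
  haveI : Nonempty W := ⟨⟨_, hξ⟩⟩
  haveI : IsIntegral (W : Scheme.{u}) := isIntegral_of_isOpenImmersion W.ι
  haveI : LocallyQuasiFinite g := by
    rw [← Scheme.Hom.quasiFiniteLocus_eq_top_iff]
    ext x
    simp only [g]
    have : f.QuasiFiniteAt (W.ι x) := x.2
    simpa [Scheme.Hom.quasiFiniteAt_comp_iff_of_isOpenImmersion] using this
  have hdimW : topologicalKrullDim ↥(W : Scheme.{u}) = topologicalKrullDim ↥Y := by
    rw [← hdim, ← ptDim_genericPoint, ← ptDim_genericPoint]
    obtain ⟨n, hn, hn'⟩ := AffDom.exists_dim_closure (W.ι ≫ p) (genericPoint (W : Scheme.{u}))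
    obtain ⟨m, hm, hm'⟩ := AffDom.exists_dim_closure p (genericPoint X)
    rw [AffDom.ptDim, AffDom.ptDim, hn, hm]
    rw [← genericPoint_eq_of_isOpenImmersion W.ι, AffDom.ptTrdeg_preimmersion W.ι p, hn'] at hm'
    have : n = m := by exact_mod_cast hm'
    rw [this]
  haveI : Flat g := flat_of_regular g q hdimW
    (fun x => haveI := hX (W.ι x); IsRegularLocalRing.of_ringEquiv
      (W.stalkIso x).symm.commRingCatIsoToRingEquiv) hY
  haveI : LocallyOfFinitePresentation g := inferInstance
  letI := ((Scheme.ΓSpecIso (CommRingCat.of (Y.residueField y))).inv ≫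
    (pullback.snd f (Y.fromSpecResidueField y)).appTop).hom.toAlgebra
  let r := Module.finrank (Y.residueField y) ↑(Γ(pullback f (Y.fromSpecResidueField y), ⊤))
  have hy' : y ∈ {s : Y | (r : Cardinal.{u}) ≤ Weight.gRank (K := Y.residueField s) (g.fiberToSpecResidueField s)} := by
    rw [Set.mem_setOf_eq, gRank_restrict f W y (hmem y hy)]
    exact (gRank_eq_finrank (K := Y.residueField y) (f.fiberToSpecResidueField y) hy).ge
  have hη' : genericPoint Y ∈ {s : Y | (r : Cardinal.{u}) ≤ Weight.gRank (K := Y.residueField s) (g.fiberToSpecResidueField s)} :=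
    (genericPoint_specializes y).mem_open (Weight.isOpen_le_gRank (f := g) r) hy'
  rw [Set.mem_setOf_eq, gRank_restrict f W _ (hmem _ hηfin)] at hη'
  have h := (gRank_eq_finrank (K := Y.residueField (genericPoint Y)) (f.fiberToSpecResidueField (genericPoint Y)) hηfin)
  rw [h] at hη'
  rw [← hηd]
  exact_mod_cast hη'

end GrothLib.FibRank10
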